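import Cfsg.Agent.H917.FP.Steps

/-!
# From `x` to non-central elements of `SL₂(K)` (helper920, S5717)
-/

set_option autoImplicit false
set_option linter.unusedSectionVars false

namespace Cfsg.Agent.H920.FP

open Cfsg.Agent.H917.FP

section

variable {K : Type*} [Field K]

/-- lower unitriangular matrices as a homomorphism -/
def loH (K : Type*) [Field K] : Multiplicative K →* Matrix.SpecialLinearGroup (Fin 2) K where
  toFun c := lo (Multiplicative.toAdd c)
  map_one' := by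
    apply Subtype.ext
    show !![1, 0; (0 : K), 1] = (1 : Matrix (Fin 2) (Fin 2) K)
    rw [Matrix.one_fin_two]
  map_mul' a b := by
    apply Subtype.ext
    show !![1, 0; Multiplicative.toAdd a + Multiplicative.toAdd b, 1] =
      !![1, 0; Multiplicative.toAdd a, 1] * !![1, 0; Multiplicative.toAdd b, 1]
    rw [Matrix.mul_fin_two]
    simp

theorem lo_inv (c : K) : (lo c)⁻¹ = lo (-c) := by
  have h := map_inv (loH K) (Multiplicative.ofAdd c)
  exact h.symm

/-- the commutator of `lo c` with `y` is central only when `y` is lower triangular -/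
theorem comm_central {c : K} (hc : c ≠ 0) (y : Matrix.SpecialLinearGroup (Fin 2) K)
    (h : (lo c)⁻¹ * y * lo c * y⁻¹ ∈ Subgroup.center (Matrix.SpecialLinearGroup (Fin 2) K)) : y.1 0 1 = 0 := by
  have h1 : ∀ z : Matrix.SpecialLinearGroup (Fin 2) K, (lo c)⁻¹ * y * lo c * y⁻¹ * z = z * ((lo c)⁻¹ * y * lo c * y⁻¹) :=
    fun z => (Subgroup.mem_center_iff.1 h z).symm
  have h2 := h1 (lo c)⁻¹
  have h3 := h1 y
  -- `[c⁻¹, y] = z` central: `y c y⁻¹ = c z`; compare with the entries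
  set z := (lo c)⁻¹ * y * lo c * y⁻¹ with hz
  have hyz : y * lo c = lo c * z * y := by rw [hz]; group
  have hz01 : z.1 0 1 = 0 := by
    have h4 := h1 (lo 1)
    have h5 := congrArg (fun g => g.1 0 0) h4
    simp only [Matrix.SpecialLinearGroup.coe_mul, Matrix.mul_apply, Fin.sum_univ_two] at h5
    simp [lo] at h5
    exact h5
  have hz10 : z.1 1 0 = 0 := by
    have h4 := h1 (up 1)
    have h5 := congrArg (fun g => g.1 0 0) h4
    simp only [Matrix.SpecialLinearGroup.coe_mul, Matrix.mul_apply, Fin.sum_univ_two] at h5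
    simp [up] at h5
    exact h5
  have hzz : z.1 0 0 = z.1 1 1 := by
    have h4 := h1 (up 1)
    have h5 := congrArg (fun g => g.1 0 1) h4
    simp only [Matrix.SpecialLinearGroup.coe_mul, Matrix.mul_apply, Fin.sum_univ_two] at h5
    simp [up] at h5
    linear_combination h5
  have e00 := congrArg (fun g => g.1 0 0) hyz
  have e01 := congrArg (fun g => g.1 0 1) hyz
  have e10 := congrArg (fun g => g.1 1 0) hyz
  have e11 := congrArg (fun g => g.1 1 1) hyz
  simp only [Matrix.SpecialLinearGroup.coe_mul, Matrix.mul_apply, Fin.sum_univ_two] at e00 e01 e10 e11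
  simp [lo, hz01, hz10] at e00 e01 e10 e11
  have hy := y.2
  have hzd := z.2
  rw [Matrix.det_fin_two] at hy hzd
  by_contra hq
  have hz1 : z.1 0 0 = 1 := by
    have : (z.1 0 0 - 1) * y.1 0 1 = 0 := by linear_combination -e01
    exact sub_eq_zero.1 ((mul_eq_zero.1 this).resolve_right hq)
  rw [hz1, one_mul] at e00
  have : y.1 0 1 * c = 0 := by linear_combination e00
  exact hq ((mul_eq_zero.1 this).resolve_right hc)

/-- **from `x` to non-central elements of `SL₂(K)`** -/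
theorem fpr_of_commute [Finite K] {G : Type*} [Group G] (Ω : Type*) [MulAction G Ω] [Finite Ω]
    (φ : Matrix.SpecialLinearGroup (Fin 2) K →* G) (x : G) (hx : ∀ c y, Commute (x * φ (lo c) * x⁻¹) (φ y)) {δ : ℝ}
    (hδ : 0 ≤ δ)
    (hz : ∀ z, z ∉ Subgroup.center (Matrix.SpecialLinearGroup (Fin 2) K) → fpr Ω {φ z} ≤ δ) :
    fpr Ω {x} ^ 4 ≤ 2 * δ + 10 / (Nat.card K : ℝ) := by
  have hQ : 2 ≤ Nat.card K := Finite.one_lt_card
  have hQ' : (2 : ℝ) ≤ Nat.card K := by exact_mod_cast hQ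
  -- the second commutator
  have hb : ∀ c : K, c ≠ 0 → fpr Ω {x * (φ (lo c) * x⁻¹ * (φ (lo c))⁻¹)} ^ 2 ≤ δ + 4 / (Nat.card K : ℝ) := by
    intro c hc
    set A := x * φ (lo c) * x⁻¹ with hA
    have hAc : ∀ y, A * φ y = φ y * A := fun y => hx c y
    have e1 : x * (φ (lo c) * x⁻¹ * (φ (lo c))⁻¹) = A * (φ (lo c))⁻¹ := by rw [hA]; group
    rw [e1]
    have h := cs_comm_hom Ω φ (A * (φ (lo c))⁻¹)
      {g : Matrix.SpecialLinearGroup (Fin 2) K | ∃ i j, g.1 i j = 0} δ hδ ?_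
    · refine h.trans ?_
      have h1 : (Nat.card {g : Matrix.SpecialLinearGroup (Fin 2) K | ∃ i j, g.1 i j = 0} : ℝ) ≤
          4 * (Nat.card K * ((Nat.card K : ℝ) - 1)) := by
        have := card_bad (K := K)
        have h2 : ((Nat.card {g : Matrix.SpecialLinearGroup (Fin 2) K | ∃ i j, g.1 i j = 0} : ℕ) : ℝ) ≤
            ((4 * (Nat.card K * (Nat.card K - 1)) : ℕ) : ℝ) := by exact_mod_cast this
        rw [Nat.cast_mul, Nat.cast_mul, Nat.cast_sub (by omega)] at h2
        simpa using h2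
      have h2 : (Nat.card (Matrix.SpecialLinearGroup (Fin 2) K) : ℝ) =
          Nat.card K * ((Nat.card K : ℝ) ^ 2 - 1) := by
        rw [card_SL2, Nat.cast_mul, Nat.cast_sub (Nat.one_le_pow _ _ (by omega))]
        simp
      rw [h2]
      have h4 : (Nat.card {g : Matrix.SpecialLinearGroup (Fin 2) K | ∃ i j, g.1 i j = 0} : ℝ) /
          (Nat.card K * ((Nat.card K : ℝ) ^ 2 - 1)) ≤ 4 / (Nat.card K : ℝ) := by
        rw [div_le_div_iff₀ (by nlinarith) (by linarith)]
        nlinarith [h1]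
      linarith
    · intro y hy
      have e2 : A * (φ (lo c))⁻¹ * (φ y * (A * (φ (lo c))⁻¹)⁻¹ * (φ y)⁻¹) = φ ((lo c)⁻¹ * y * lo c * y⁻¹) := by
        rw [map_mul, map_mul, map_mul, map_inv, map_inv]
        have h1 : A * (φ (lo c))⁻¹ * (φ y * (A * (φ (lo c))⁻¹)⁻¹ * (φ y)⁻¹) =
            A * ((φ (lo c))⁻¹ * φ y * φ (lo c)) * A⁻¹ * (φ y)⁻¹ := by group
        have h2 : (φ (lo c))⁻¹ * φ y * φ (lo c) = φ ((lo c)⁻¹ * y * lo c) := by
          rw [map_mul, map_mul, map_inv]
        rw [h1, h2, hAc, mul_inv_cancel_right]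
      rw [e2]
      apply hz
      intro hcen
      exact hy ⟨0, 1, comm_central hc y hcen⟩
  -- the first commutator
  have hd : 0 ≤ δ + 4 / (Nat.card K : ℝ) := by positivity
  have ha := cs_comm_hom Ω (φ.comp (loH K)) x {1} (√(δ + 4 / (Nat.card K : ℝ))) (Real.sqrt_nonneg _) (by
    intro c hc
    have hc0 : Multiplicative.toAdd c ≠ 0 := fun h => hc h
    exact Real.le_sqrt_of_sq_le (hb _ hc0))
  have hcard : (Nat.card (Multiplicative K) : ℝ) = Nat.card K := by
    rw [Nat.card_congr Multiplicative.toAdd]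
  rw [hcard] at ha
  have h1 : (Nat.card ({1} : Set (Multiplicative K)) : ℝ) = 1 := by simp
  rw [h1] at ha
  set r := √(δ + 4 / (Nat.card K : ℝ)) with hr
  have hr2 : r ^ 2 = δ + 4 / (Nat.card K : ℝ) := Real.sq_sqrt hd
  have hr0 : 0 ≤ r := Real.sqrt_nonneg _
  have hQi : 0 ≤ 1 / (Nat.card K : ℝ) := by positivity
  have hQi1 : 1 / (Nat.card K : ℝ) ≤ 1 := by
    rw [div_le_one (by linarith)]; linarith
  have hx2 : 0 ≤ fpr Ω {x} ^ 2 := by positivity
  calc fpr Ω {x} ^ 4 = (fpr Ω {x} ^ 2) ^ 2 := by ring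
    _ ≤ (r + 1 / (Nat.card K : ℝ)) ^ 2 := by gcongr
    _ ≤ 2 * r ^ 2 + 2 * (1 / (Nat.card K : ℝ)) ^ 2 := by nlinarith [sq_nonneg (r - 1 / (Nat.card K : ℝ))]
    _ ≤ 2 * r ^ 2 + 2 * (1 / (Nat.card K : ℝ)) := by nlinarith
    _ = 2 * δ + 10 / (Nat.card K : ℝ) := by rw [hr2]; ring

end

end Cfsg.Agent.H920.FP
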