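import Cfsg.Agent.H920.FP.Row
import Cfsg.Agent.LieClassical.HermBasic

/-!
# The rows `Sp` and `SU` (helper920, S5717)
-/

set_option autoImplicit false
set_option linter.unusedSectionVars false

namespace Cfsg.Agent.H920.FP

open Module Matrix

section rho

variable {M : Type} [Group M] {ι : Type} [Fintype ι] [DecidableEq ι] {F : Type} [Field F]

/-- the action on column vectors -/
noncomputable def rho (j : M →* Matrix ι ι F) : M →* ((ι → F) ≃ₗ[F] (ι → F)) :=
  (LinearMap.GeneralLinearGroup.generalLinearEquiv F (ι → F)).toMonoidHom.comp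
    ((Matrix.GeneralLinearGroup.toLin (n := ι) (R := F)).toMonoidHom.comp j.toHomUnits)

theorem rho_apply (j : M →* Matrix ι ι F) (x : M) (v : ι → F) : rho j x v = j x *ᵥ v := rfl

theorem rho_inj {j : M →* Matrix ι ι F} (hj : Function.Injective j) : Function.Injective (rho j) := by
  intro x y hxy
  apply hj
  apply Matrix.ext_iff_mulVec.2
  intro v
  rw [← rho_apply, ← rho_apply, hxy]

theorem det_of_perfect (S : Subgroup ((ι → F) ≃ₗ[F] (ι → F))) (h : ⁅S, S⁆ = S) (g : (ι → F) ≃ₗ[F] (ι → F))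
    (hg : g ∈ S) : (LinearMap.toMatrix' (g : (ι → F) →ₗ[F] (ι → F))).det = 1 := by
  have h1 : S ≤ (LinearEquiv.det (R := F) (M := ι → F)).ker := by
    rw [← h, Subgroup.commutator_le]
    intro a _ b _
    rw [MonoidHom.mem_ker, map_commutatorElement, commutatorElement_eq_one_iff_mul_comm, mul_comm]
  have h2 := congrArg Units.val (MonoidHom.mem_ker.1 (h1 hg))
  rw [LinearEquiv.coe_det] at h2
  rw [LinearMap.det_toMatrix']
  exact h2

end rho

section sp

variable (F : Type) [Field F] (m : ℕ)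

/-- the symplectic form of `Matrix.symplecticGroup` -/
def spFrm : Frm F (Fin m ⊕ Fin m → F) where
  σ := RingHom.id F
  B u v := u ⬝ᵥ (Matrix.J (Fin m) F *ᵥ v)
  q _ := 0
  ε := -1
  α := 0
  β := 0
  add_left u v w := add_dotProduct _ _ _
  add_right u v w := by rw [mulVec_add, dotProduct_add]
  smul_left a u v := by rw [smul_dotProduct, smul_eq_mul]
  smul_right a u v := by rw [mulVec_smul, dotProduct_smul, smul_eq_mul]; rfl
  symm u v := by
    show v ⬝ᵥ (Matrix.J (Fin m) F *ᵥ u) = -1 * (u ⬝ᵥ (Matrix.J (Fin m) F *ᵥ v))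
    rw [dotProduct_comm v, dotProduct_comm u (Matrix.J (Fin m) F *ᵥ v), ← neg_one_mul,
      dotProduct_comm (Matrix.J (Fin m) F *ᵥ u) v, dotProduct_mulVec, ← Matrix.mulVec_transpose, Matrix.J_transpose,
      Matrix.neg_mulVec, neg_dotProduct]
    ring
  q_add u v := by ring
  q_smul a u := by ring
  iso u _ := by
    show u ⬝ᵥ (Matrix.J (Fin m) F *ᵥ u) = 0
    obtain ⟨a, b, rfl⟩ : ∃ p q, u = Sum.elim p q := ⟨u ∘ Sum.inl, u ∘ Sum.inr, (Sum.elim_comp_inl_inr u).symm⟩
    rw [Matrix.J, fromBlocks_mulVec]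
    simp only [Sum.elim_comp_inl, Sum.elim_comp_inr, zero_mulVec, one_mulVec, zero_add, add_zero,
      Matrix.neg_mulVec]
    rw [sumElim_dotProduct_sumElim, dotProduct_neg, dotProduct_comm b a, neg_add_cancel]
  nondeg u h := by
    have h1 : ∀ w, u ⬝ᵥ w = 0 := by
      intro w
      have h2 := h (-(Matrix.J (Fin m) F *ᵥ w))
      rw [mulVec_neg, mulVec_mulVec, Matrix.J_squared, Matrix.neg_mulVec, one_mulVec, neg_neg] at h2
      exact h2
    exact dotProduct_eq_zero u h1
  adj w v _ _ := ⟨0, rfl⟩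

theorem sp_row : StSp := by
  intro F _ _ m
  let j : Matrix.symplecticGroup (Fin m) F →* Matrix (Fin m ⊕ Fin m) (Fin m ⊕ Fin m) F :=
    (Matrix.symplecticGroup (Fin m) F).subtype
  have hj : Function.Injective j := Subtype.val_injective
  refine ⟨⟨spFrm F m, rho j, fun x v => rfl, rho_inj hj, ?_, ?_⟩⟩
  · intro x
    constructor
    · intro u v
      show (x.1 *ᵥ u) ⬝ᵥ (Matrix.J (Fin m) F *ᵥ (x.1 *ᵥ v)) = u ⬝ᵥ (Matrix.J (Fin m) F *ᵥ v)
      have hx := SymplecticGroup.mem_iff'.1 x.2
      have h2 : u ⬝ᵥ (((x.1)ᵀ * Matrix.J (Fin m) F * x.1) *ᵥ v) = (x.1 *ᵥ u) ⬝ᵥ (Matrix.J (Fin m) F *ᵥ (x.1 *ᵥ v)) := by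
        rw [← mulVec_mulVec, ← mulVec_mulVec, dotProduct_mulVec u, vecMul_transpose]
      rw [← h2, hx]
    · intro u; rfl
  · intro S hS _ g hg
    have h1 := (hS g hg).B
    let A := LinearMap.toMatrix' (g : (Fin m ⊕ Fin m → F) →ₗ[F] (Fin m ⊕ Fin m → F))
    have hA : ∀ v, A *ᵥ v = g v := fun v => LinearMap.toMatrix'_mulVec _ _
    have hmem : A ∈ Matrix.symplecticGroup (Fin m) F := by
      rw [SymplecticGroup.mem_iff']
      apply Matrix.ext_iff_mulVec.2
      intro v
      rw [← sub_eq_zero]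
      apply dotProduct_eq_zero
      intro u
      rw [dotProduct_comm, dotProduct_sub, sub_eq_zero, ← mulVec_mulVec, ← mulVec_mulVec, dotProduct_mulVec u,
        vecMul_transpose, hA, hA]
      exact h1 u v
    refine ⟨⟨A, hmem⟩, ?_⟩
    apply LinearEquiv.ext
    intro v
    exact hA v

end sp

section su

open Cfsg.Agent.LieClassical.HermBasic

variable {F : Type} [Field F] [Fintype F] {q : ℕ} (hF : Fintype.card F = q ^ 2) (n : ℕ)

/-- the hermitian form -/
def suFrm : Frm F (Fin n → F) where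
  σ := (conj hF : F →+* F)
  B u v := hermForm n F q u v
  q u := hermForm n F q u u
  ε := 1
  α := 1
  β := 1
  add_left u v w := herm_add_left u v w
  add_right u v w := herm_add_right hF u v w
  smul_left a u v := herm_smul_left a u v
  smul_right a u v := herm_smul_right a u v
  symm u v := by
    rw [one_mul]
    exact herm_swap hF u v
  q_add u v := by
    rw [herm_add_left, herm_add_right hF, herm_add_right hF]; ring
  q_smul a u := by
    rw [herm_smul_left, herm_smul_right]
    show a * (a ^ q * _) = a * a ^ q * _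
    ring
  iso u h := h
  nondeg u h := herm_nondeg hF h
  adj w v hw hwv := by
    obtain ⟨c, hc⟩ := exists_trace_eq hF (c := -hermForm n F q v v) (by rw [neg_pow_q hF, herm_self_pow hF])
    refine ⟨c, ?_⟩
    have h1 : hermForm n F q v w = 1 := by rw [herm_swap hF w v, hwv, one_pow]
    rw [herm_add_left, herm_add_right hF, herm_add_right hF, herm_smul_left, herm_smul_left, herm_smul_right,
      herm_smul_right, hw, hwv, h1]
    linear_combination hc

theorem su_row : StSU := by
  intro F _ _ n q hF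
  let j : Cfsg.SU n F q →* Matrix (Fin n) (Fin n) F := (Cfsg.slToMat n F).comp (Cfsg.SU n F q).subtype
  have hj : Function.Injective j := by
    intro x y hxy
    exact Subtype.ext (Subtype.ext hxy)
  refine ⟨⟨suFrm hF n, rho j, fun x v => rfl, rho_inj hj, ?_, ?_⟩⟩
  · intro x
    have hx := (mem_SU_iff x.1).1 x.2
    exact ⟨fun u v => hx u v, fun u => hx u u⟩
  · intro S hS hp g hg
    have h1 := (hS g hg).B
    have hdet := det_of_perfect S hp g hg
    let A := LinearMap.toMatrix' (g : (Fin n → F) →ₗ[F] (Fin n → F))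
    have hA : ∀ v, A *ᵥ v = g v := fun v => LinearMap.toMatrix'_mulVec _ _
    let A' : Matrix.SpecialLinearGroup (Fin n) F := ⟨A, hdet⟩
    have hmem : A' ∈ Cfsg.SU n F q := by
      refine (mem_SU_iff A').2 ?_
      intro u v
      show hermForm n F q (A *ᵥ u) (A *ᵥ v) = _
      rw [hA, hA]
      exact h1 u v
    refine ⟨⟨A', hmem⟩, ?_⟩
    apply LinearEquiv.ext
    intro v
    exact hA v

end su

end Cfsg.Agent.H920.FP
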